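/-
Vectors and matrices over `F₂` stored as bit masks.
-/
import Mathlib
import Cfsg.Prelude.Def_ClassicalGeometry

set_option autoImplicit false

namespace CfsgLib.OrthH1

open Matrix

/-- A bit of a natural number, in `F₂`. -/
def bitZ (x i : ℕ) : ZMod 2 := if x.testBit i then 1 else 0

theorem bitZ_xor (x y i : ℕ) : bitZ (x ^^^ y) i = bitZ x i + bitZ y i := by
  simp only [bitZ, Nat.testBit_xor]
  cases x.testBit i <;> cases y.testBit i <;> decide

theorem bitZ_zero (i : ℕ) : bitZ 0 i = 0 := by simp [bitZ]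

theorem bitZ_two_pow (j i : ℕ) : bitZ (2 ^ j) i = if j = i then 1 else 0 := by
  by_cases h : j = i <;> simp [bitZ, Nat.testBit_two_pow, h]

/-- The image of the mask `x` under the map with the given columns, using the first `n` of them. -/
def applyC (A : List ℕ) (x : ℕ) : ℕ → ℕ
  | 0 => 0
  | j + 1 => if x.testBit j then applyC A x j ^^^ A.getD j 0 else applyC A x j

theorem bitZ_applyC (A : List ℕ) (x i : ℕ) : ∀ n,
    bitZ (applyC A x n) i = ∑ j ∈ Finset.range n, bitZ x j * bitZ (A.getD j 0) i
  | 0 => by simp [applyC, bitZ_zero]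
  | n + 1 => by
    rw [Finset.sum_range_succ, ← bitZ_applyC A x i n, applyC]
    by_cases h : x.testBit n
    · rw [if_pos h, bitZ_xor]; simp [bitZ, h]
    · rw [if_neg h]; simp [bitZ, h]

/-- Composition of maps given by columns. -/
def mulC (n : ℕ) (A B : List ℕ) : List ℕ := (List.range n).map fun j => applyC A (B.getD j 0) n

/-- The identity. -/
def oneC (n : ℕ) : List ℕ := (List.range n).map fun j => 2 ^ j

/-- The long root element of the pair `u, v`, for the polar form with rows `P`. -/
def rootC (n : ℕ) (P : List ℕ) (u v : ℕ) : List ℕ := (List.range n).map fun j =>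
  2 ^ j ^^^ (if (applyC P u n).testBit j then v else 0) ^^^ (if (applyC P v n).testBit j then u else 0)

/-- The map has no non-zero fixed vector. -/
def fpfC (n : ℕ) (A : List ℕ) : Bool :=
  (List.range (2 ^ n)).all fun x => x == 0 || (applyC A x n ^^^ x) % 2 ^ n != 0

theorem getD_range_map (n : ℕ) (g : ℕ → ℕ) {j : ℕ} (hj : j < n) :
    ((List.range n).map g).getD j 0 = g j := by
  rw [List.getD_eq_getElem _ _ (by simpa using hj)]
  simp

variable {ι : Type} [Fintype ι] [DecidableEq ι] {n : ℕ} (e : ι ≃ Fin n)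

/-- The vector of a mask. -/
def vecB (x : ℕ) : ι → ZMod 2 := fun i => bitZ x (e i)

/-- The matrix with the given columns. -/
def matB (A : List ℕ) : Matrix ι ι (ZMod 2) := Matrix.of fun i j => bitZ (A.getD (e j) 0) (e i)

omit [DecidableEq ι] in
theorem sum_range_eq (g : ℕ → ZMod 2) : ∑ j ∈ Finset.range n, g j = ∑ i : ι, g (e i) := by
  rw [Finset.sum_range, Equiv.sum_comp e (fun j : Fin n => g j)]

omit [DecidableEq ι] in
theorem matB_mulVec (A : List ℕ) (x : ℕ) : matB e A *ᵥ vecB e x = vecB e (applyC A x n) := by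
  funext i
  simp only [vecB, bitZ_applyC, mulVec, dotProduct, matB, Matrix.of_apply]
  rw [sum_range_eq e]
  exact Finset.sum_congr rfl fun j _ => mul_comm _ _

omit [DecidableEq ι] in
theorem matB_mulC (A B : List ℕ) : matB e (mulC n A B) = matB e A * matB e B := by
  ext i k
  simp only [matB, Matrix.of_apply, Matrix.mul_apply, mulC, getD_range_map _ _ (e k).isLt, bitZ_applyC]
  rw [sum_range_eq e]
  exact Finset.sum_congr rfl fun j _ => mul_comm _ _

theorem matB_oneC : matB e (oneC n) = (1 : Matrix ι ι (ZMod 2)) := by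
  ext i j
  simp only [matB, Matrix.of_apply, oneC, getD_range_map _ _ (e j).isLt, bitZ_two_pow, Matrix.one_apply]
  by_cases h : i = j
  · simp [h]
  · rw [if_neg h, if_neg]
    exact fun h' => h (e.injective (Fin.ext h'.symm))

omit [DecidableEq ι] in
theorem vecB_surjective (w : ι → ZMod 2) : ∃ x, x < 2 ^ n ∧ vecB e x = w := by
  classical
  have hinj : Function.Injective (fun x : Fin (2 ^ n) => vecB e x.1) := by
    intro x y h
    refine Fin.ext (Nat.eq_of_testBit_eq fun i => ?_)
    by_cases hi : i < n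
    · have := congrFun h (e.symm ⟨i, hi⟩)
      simp only [vecB, Equiv.apply_symm_apply, bitZ] at this
      cases hx : x.1.testBit i <;> cases hy : y.1.testBit i <;> simp_all
    · have hp : 2 ^ n ≤ 2 ^ i := Nat.pow_le_pow_right two_pos (by omega)
      rw [Nat.testBit_eq_false_of_lt (x.2.trans_le hp), Nat.testBit_eq_false_of_lt (y.2.trans_le hp)]
  have hbij := (Fintype.bijective_iff_injective_and_card _).2 ⟨hinj, by
    rw [Fintype.card_fin, Fintype.card_fun, ZMod.card, Fintype.card_congr e, Fintype.card_fin]⟩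
  obtain ⟨x, hx⟩ := hbij.2 w
  exact ⟨x.1, x.2, hx⟩

omit [DecidableEq ι] in
theorem eq_zero_of_fpfC {A : List ℕ} (h : fpfC n A = true) {w : ι → ZMod 2} (hw : matB e A *ᵥ w = w) :
    w = 0 := by
  obtain ⟨x, hx, rfl⟩ := vecB_surjective e w
  rw [fpfC, List.all_eq_true] at h
  have h' := h x (List.mem_range.2 hx)
  rw [matB_mulVec] at hw
  by_cases hx0 : x = 0
  · funext i; simp [hx0, vecB, bitZ_zero]
  · exfalso
    simp only [Bool.or_eq_true, beq_iff_eq, hx0, false_or, bne_iff_ne] at h'
    apply h'
    refine Nat.eq_of_testBit_eq fun i => ?_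
    rw [Nat.zero_testBit, Nat.testBit_mod_two_pow]
    by_cases hi : i < n
    · have := congrFun hw (e.symm ⟨i, hi⟩)
      simp only [vecB, Equiv.apply_symm_apply, bitZ] at this
      rw [Nat.testBit_xor]
      cases hX : x.testBit i <;> cases hY : (applyC A x n).testBit i <;> simp_all
    · simp [hi]

theorem matB_rootC (Q : QuadraticForm (ZMod 2) (ι → ZMod 2)) (P : List ℕ)
    (hP : ∀ i j : ι, QuadraticMap.polar Q (Pi.single i 1) (Pi.single j 1) = bitZ (P.getD (e i) 0) (e j))
    (u v : ℕ) :
    matB e (rootC n P u v) = Cfsg.siegelMatrix (⇑Q) (vecB e u) (vecB e v) 1 := by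
  have hpv : ∀ (u : ℕ) (j : ι), Cfsg.polarVec (⇑Q) (vecB e u) j = bitZ (applyC P u n) (e j) := by
    intro u j
    rw [bitZ_applyC, sum_range_eq e]
    change QuadraticMap.polarBilin Q (vecB e u) (Pi.single j 1) = _
    conv_lhs => rw [pi_eq_sum_univ' (vecB e u)]
    rw [map_sum, LinearMap.sum_apply]
    refine Finset.sum_congr rfl fun i _ => ?_
    rw [map_smul, LinearMap.smul_apply, smul_eq_mul, ← hP i j]
    rfl
  ext i j
  simp only [matB, Matrix.of_apply, rootC, getD_range_map _ _ (e j).isLt, bitZ_xor, bitZ_two_pow,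
    Cfsg.siegelMatrix, one_smul, Matrix.add_apply, Matrix.sub_apply, Matrix.vecMulVec_apply,
    Matrix.one_apply, hpv, vecB]
  have h1 : (if ((e j : Fin n) : ℕ) = (e i : Fin n) then (1 : ZMod 2) else 0) = if i = j then 1 else 0 := by
    by_cases h : i = j
    · simp [h]
    · rw [if_neg h, if_neg]
      exact fun h' => h (e.injective (Fin.ext h'.symm))
  rw [h1, CharTwo.sub_eq_add, add_assoc]
  congr 1
  cases hu : (applyC P u n).testBit (e j) <;> cases hv : (applyC P v n).testBit (e j) <;>
    simp [bitZ, hu, hv]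

end CfsgLib.OrthH1
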