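/-
Vanishing of the first cohomology of `Ω` on its natural module over `F₂` from a finite certificate:
a chain of elements forced to have zero value (each conjugates a known element to a known
fixed-point-free one) together with the orbit of one long root element under them.
-/
import Cfsg.Agent.Lib.Classical.QuadSiegel
import Cfsg.Agent.Lib.OrthH1.Bits

set_option autoImplicit false

namespace CfsgLib.OrthH1

open Matrix Cfsg CfsgLib.Classical

/-- A search tree with three numbers at each key. -/
inductive Tr where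
  | leaf
  | node (l : Tr) (k a b c : ℕ) (r : Tr)

/-- Look up a key. -/
def Tr.find : Tr → ℕ → Option (ℕ × ℕ × ℕ)
  | .leaf, _ => none
  | .node l k a b c r, x => bif x < k then l.find x else bif k < x then r.find x else some (a, b, c)

/-- The certificate: the generators as root words, the relations of all but the first, the root
generator at the base of the orbit, the orbit by number (code, parent, generator), and by code. -/
structure Cert where
  gens : List (List (ℕ × ℕ))
  rels : List (List ℕ × List ℕ)
  base : ℕ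
  count : ℕ
  orbit : Tr
  index : Tr

/-- The columns stored in a code. -/
def unpack (n x : ℕ) : List ℕ := (List.range n).map fun j => x / 2 ^ (n * j) % 2 ^ n

/-- The code of columns. -/
def pack (n : ℕ) : List ℕ → ℕ
  | [] => 0
  | c :: cs => c + 2 ^ n * pack n cs

/-- Columns of a word in root elements. -/
def rootWord (n : ℕ) (P : List ℕ) (w : List (ℕ × ℕ)) : List ℕ :=
  w.foldr (fun uv acc => mulC n (rootC n P uv.1 uv.2) acc) (oneC n)

/-- Columns of a word in a list of maps. -/
def genWord (n : ℕ) (G : List (List ℕ)) (w : List ℕ) : List ℕ :=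
  w.foldr (fun i acc => mulC n (G.getD i []) acc) (oneC n)

/-- Is `(u, v)` a pair of singular orthogonal vectors? -/
def pairOK (qz : ℕ) (u v : ℕ) : Bool := qz.testBit u && (qz.testBit v && qz.testBit (u ^^^ v))

/-- The checker. -/
def check (n : ℕ) (P : List ℕ) (qz : ℕ) (C : Cert) : Bool :=
  let G := C.gens.map (rootWord n P)
  let Gi := C.gens.map fun w => rootWord n P w.reverse
  let m := C.gens.length
  (C.gens.all fun w => w.all fun uv => pairOK qz uv.1 uv.2 && decide (uv.1 < 2 ^ n ∧ uv.2 < 2 ^ n))
  && ((List.range m).all fun i => mulC n (G.getD i []) (Gi.getD i []) == oneC n)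
  && fpfC n (G.getD 0 [])
  && decide (C.rels.length + 1 = m)
  && ((List.range C.rels.length).all fun i =>
      let r := C.rels.getD i ([], [])
      r.1.all (fun k => decide (k ≤ i)) && r.2.all (fun k => decide (k ≤ i))
        && mulC n (G.getD (i + 1) []) (genWord n G r.1) == mulC n (genWord n G r.2) (G.getD (i + 1) [])
        && fpfC n (genWord n G r.2))
  && decide (C.base < m)
  && ((List.range C.count).all fun i => match C.orbit.find i with
      | none => false
      | some (code, par, g) =>
        if i = 0 then unpack n code == G.getD C.base []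
        else decide (par < i ∧ g < m) && (match C.orbit.find par with
          | none => false
          | some (pc, _, _) =>
            unpack n code == mulC n (G.getD g []) (mulC n (unpack n pc) (Gi.getD g []))))
  && ((List.range (2 ^ n)).all fun u => !qz.testBit u || (List.range (2 ^ n)).all fun v =>
      !pairOK qz u v ||
        let R := rootC n P u v
        R == oneC n || match C.index.find (pack n R) with
          | none => false
          | some (i, _, _) => decide (i < C.count) && match C.orbit.find i with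
            | none => false
            | some (code, _, _) => unpack n code == R)

section Soundness

variable {ι : Type} [Fintype ι] [DecidableEq ι] (Q : QuadraticForm (ZMod 2) (ι → ZMod 2))

/-- The matrix of an element of `Ω`. -/
def omMat : ↥(Omega (ZMod 2) ⇑Q) →* Matrix ι ι (ZMod 2) :=
  ((Units.coeHom _).comp (isometryGroup (ZMod 2) ⇑Q).subtype).comp (Omega (ZMod 2) ⇑Q).subtype

theorem omMat_injective : Function.Injective (omMat Q) :=
  fun _ _ h => Subtype.ext (Subtype.ext (Units.ext h))

theorem exists_siegel (hQ : PolarNondeg Q) (hn : 5 ≤ Fintype.card ι) {u v : ι → ZMod 2}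
    (hu : Q u = 0) (hv : Q v = 0) (huv : QuadraticMap.polar Q u v = 0) :
    ∃ g : ↥(Omega (ZMod 2) ⇑Q), omMat Q g = siegelMatrix (⇑Q) u v 1 := by
  have hmat : (((isoEquiv Q).symm (eich Q u v) : GL ι (ZMod 2)) : Matrix ι ι (ZMod 2)) =
      siegelMatrix (⇑Q) u v 1 := by
    refine Matrix.ext_of_mulVec_single fun i => ?_
    rw [siegelMatrix_mulVec Q hu hv huv, one_smul]
    change isoApply ((isoEquiv Q).symm (eich Q u v)) _ = _
    rw [← isoEquiv_apply, MulEquiv.apply_symm_apply]
  refine ⟨⟨(isoEquiv Q).symm (eich Q u v), ?_⟩, hmat⟩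
  rw [Omega_eq_closure_siegel Q hQ hn]
  exact Subgroup.subset_closure ⟨u, v, 1, hu, hv, huv, hmat⟩

theorem h1_eq_zero {n : ℕ} (e : ι ≃ Fin n) (hQ : PolarNondeg Q) (hn : 5 ≤ Fintype.card ι)
    (P : List ℕ)
    (hP : ∀ i j : ι, QuadraticMap.polar Q (Pi.single i 1) (Pi.single j 1) = bitZ (P.getD (e i) 0) (e j))
    (qz : ℕ) (hqz : ∀ x, x < 2 ^ n → (Q (vecB e x) = 0 ↔ qz.testBit x = true))
    (C : Cert) (hC : check n P qz C = true)
    (f : ↥(Omega (ZMod 2) ⇑Q) → (ι → ZMod 2))
    (hf : ∀ g h, f (g * h) = f g + omMat Q g *ᵥ f h) :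
    ∃ v, ∀ g, f g = omMat Q g *ᵥ v - v := by
  classical
  simp only [check, Bool.and_eq_true, List.all_eq_true, List.mem_range, decide_eq_true_eq,
    beq_iff_eq] at hC
  obtain ⟨⟨⟨⟨⟨⟨⟨hroots, hinv⟩, hfpf0⟩, hlen⟩, hrels⟩, hbase⟩, horb⟩, hall⟩ := hC
  set m := C.gens.length with hm
  set G := C.gens.map (rootWord n P) with hG
  set Gi := C.gens.map (fun w => rootWord n P w.reverse) with hGi
  have hpair : ∀ u v, u < 2 ^ n → v < 2 ^ n → pairOK qz u v = true →
      Q (vecB e u) = 0 ∧ Q (vecB e v) = 0 ∧ QuadraticMap.polar Q (vecB e u) (vecB e v) = 0 := by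
    intro u v hu hv h
    simp only [pairOK, Bool.and_eq_true] at h
    obtain ⟨h1, h2, h3⟩ := h
    have h1' := (hqz u hu).2 h1
    have h2' := (hqz v hv).2 h2
    have h3' := (hqz _ (Nat.xor_lt_two_pow hu hv)).2 h3
    have hadd : vecB e (u ^^^ v) = vecB e u + vecB e v := funext fun i => bitZ_xor _ _ _
    rw [hadd] at h3'
    exact ⟨h1', h2', by simp [QuadraticMap.polar, h1', h2', h3']⟩
  have hroot : ∀ u v, u < 2 ^ n → v < 2 ^ n → pairOK qz u v = true →
      ∃ g, omMat Q g = matB e (rootC n P u v) := by
    intro u v hu hv h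
    obtain ⟨h1, h2, h3⟩ := hpair u v hu hv h
    rw [matB_rootC e Q P hP]
    exact exists_siegel Q hQ hn h1 h2 h3
  have hword : ∀ w : List (ℕ × ℕ),
      (∀ uv ∈ w, pairOK qz uv.1 uv.2 = true ∧ uv.1 < 2 ^ n ∧ uv.2 < 2 ^ n) →
      ∃ g, omMat Q g = matB e (rootWord n P w) := by
    intro w
    induction w with
    | nil => exact fun _ => ⟨1, by rw [map_one]; exact (matB_oneC e).symm⟩
    | cons a w ih =>
      intro h
      obtain ⟨g₁, hg₁⟩ := hroot a.1 a.2 (h a (List.mem_cons_self ..)).2.1
        (h a (List.mem_cons_self ..)).2.2 (h a (List.mem_cons_self ..)).1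
      obtain ⟨g₂, hg₂⟩ := ih fun uv huv => h uv (List.mem_cons_of_mem _ huv)
      refine ⟨g₁ * g₂, ?_⟩
      rw [map_mul, hg₁, hg₂, ← matB_mulC]
      rfl
  have hgen : ∀ i, i < m → ∃ g, omMat Q g = matB e (G.getD i []) ∧
      omMat Q g⁻¹ = matB e (Gi.getD i []) := by
    intro i hi
    have e1 : G.getD i [] = rootWord n P (C.gens[i]'hi) := by
      rw [List.getD_eq_getElem _ _ (by simpa [hG] using hi)]
      simp [hG]
    obtain ⟨g, hg⟩ := hword _ (hroots _ (List.getElem_mem hi))
    rw [← e1] at hg
    refine ⟨g, hg, ?_⟩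
    have h := congrArg (matB e) (hinv i hi)
    rw [matB_mulC, matB_oneC, ← hg] at h
    calc omMat Q g⁻¹ = omMat Q g⁻¹ * (omMat Q g * matB e (Gi.getD i [])) := by rw [h, mul_one]
      _ = matB e (Gi.getD i []) := by rw [← mul_assoc, ← map_mul, inv_mul_cancel, map_one, one_mul]
  choose γ hγ hγi using hgen
  have hm0 : 0 < m := by omega
  -- normalise at the fixed-point-free element `γ 0`
  let T : (ι → ZMod 2) → (ι → ZMod 2) := fun x => omMat Q (γ 0 hm0) *ᵥ x - x
  have hT : Function.Injective T := by
    intro x y hxy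
    refine sub_eq_zero.1 (eq_zero_of_fpfC e hfpf0 ?_)
    rw [← hγ 0 hm0, mulVec_sub]
    have := hxy
    simp only [T] at this
    rw [sub_eq_sub_iff_sub_eq_sub] at this
    exact this
  obtain ⟨v, hv⟩ := (Finite.injective_iff_surjective.1 hT) (f (γ 0 hm0))
  refine ⟨v, ?_⟩
  let f' : ↥(Omega (ZMod 2) ⇑Q) → (ι → ZMod 2) := fun g => f g - (omMat Q g *ᵥ v - v)
  have hf' : ∀ g h, f' (g * h) = f' g + omMat Q g *ᵥ f' h := by
    intro g h
    simp only [f', hf, map_mul, mulVec_sub, ← mulVec_mulVec]
    abel
  let Z : Subgroup ↥(Omega (ZMod 2) ⇑Q) :=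
    { carrier := {g | f' g = 0}
      one_mem' := by
        have h := hf' 1 1
        rw [mul_one, map_one, one_mulVec] at h
        simpa using h
      mul_mem' := fun {a b} ha hb => by
        simp only [Set.mem_setOf_eq] at ha hb ⊢
        rw [hf', ha, hb, mulVec_zero, add_zero]
      inv_mem' := fun {a} ha => by
        have h1 : f' 1 = 0 := by
          have h := hf' 1 1
          rw [mul_one, map_one, one_mulVec] at h
          simpa using h
        simp only [Set.mem_setOf_eq] at ha ⊢
        have h := hf' a a⁻¹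
        rw [mul_inv_cancel, h1, ha, zero_add] at h
        have h' := congrArg (omMat Q a⁻¹ *ᵥ ·) h.symm
        simpa [mulVec_mulVec, ← map_mul] using h' }
  have hwordZ : ∀ (w : List ℕ) (b : ℕ), (∀ k ∈ w, k < b) → b ≤ m →
      (∀ k (hk : k < m), k < b → γ k hk ∈ Z) → ∃ g ∈ Z, omMat Q g = matB e (genWord n G w) := by
    intro w
    induction w with
    | nil => exact fun _ _ _ _ => ⟨1, Z.one_mem, by rw [map_one]; exact (matB_oneC e).symm⟩
    | cons a w ih =>
      intro b h hb hz
      have ha := h a (List.mem_cons_self ..)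
      obtain ⟨g, hg, hg'⟩ := ih b (fun k hk => h k (List.mem_cons_of_mem _ hk)) hb hz
      refine ⟨γ a (by omega) * g, Z.mul_mem (hz a _ ha) hg, ?_⟩
      rw [map_mul, hγ, hg', ← matB_mulC]
      rfl
  have hZgen : ∀ i (hi : i < m), γ i hi ∈ Z := by
    intro i
    induction i using Nat.strong_induction_on with
    | _ i ih =>
      intro hi
      rcases i with _ | i
      · change f (γ 0 hi) - (omMat Q (γ 0 hi) *ᵥ v - v) = 0
        exact sub_eq_zero.2 hv.symm
      · obtain ⟨⟨⟨h1, h2⟩, h3⟩, h4⟩ := hrels i (by omega)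
        have hz : ∀ k (hk : k < m), k < i + 1 → γ k hk ∈ Z := fun k hk hki => ih k hki hk
        obtain ⟨z, hzZ, hz'⟩ := hwordZ _ (i + 1) (fun k hk => Nat.lt_succ_of_le (h1 k hk)) (by omega) hz
        obtain ⟨y, hyZ, hy'⟩ := hwordZ _ (i + 1) (fun k hk => Nat.lt_succ_of_le (h2 k hk)) (by omega) hz
        have heq : γ (i + 1) hi * z = y * γ (i + 1) hi := omMat_injective Q (by
          rw [map_mul, map_mul, hγ, hz', hy', ← matB_mulC, ← matB_mulC, h3])
        have h := congrArg f' heq
        rw [hf', hf', show f' z = 0 from hzZ, show f' y = 0 from hyZ, mulVec_zero, add_zero,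
          zero_add] at h
        exact eq_zero_of_fpfC e h4 (hy' ▸ h.symm)
  have horbit : ∀ i, i < C.count → ∀ code par g, C.orbit.find i = some (code, par, g) →
      ∃ r ∈ Z, omMat Q r = matB e (unpack n code) := by
    intro i
    induction i using Nat.strong_induction_on with
    | _ i ih =>
      intro hi code par g hfind
      have h := horb i hi
      rw [hfind] at h
      dsimp only at h
      split_ifs at h with h0
      · rw [beq_iff_eq] at h
        exact ⟨γ C.base hbase, hZgen _ _, by rw [hγ, h]⟩
      · simp only [Bool.and_eq_true, decide_eq_true_eq] at h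
        obtain ⟨⟨hpar, hg⟩, h⟩ := h
        cases hp : C.orbit.find par with
        | none => simp [hp] at h
        | some x =>
          obtain ⟨pc, q1, q2⟩ := x
          rw [hp] at h
          simp only [beq_iff_eq] at h
          obtain ⟨r, hr, hr'⟩ := ih par hpar (hpar.trans hi) pc q1 q2 hp
          refine ⟨γ g hg * (r * (γ g hg)⁻¹),
            Z.mul_mem (hZgen _ _) (Z.mul_mem hr (Z.inv_mem (hZgen _ _))), ?_⟩
          rw [map_mul, map_mul, hγ, hr', hγi, h, matB_mulC, matB_mulC]
  have hsieg : ∀ g : ↥(Omega (ZMod 2) ⇑Q), ∀ (u w : ι → ZMod 2) (c : ZMod 2), Q u = 0 → Q w = 0 →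
      QuadraticMap.polar Q u w = 0 → omMat Q g = siegelMatrix (⇑Q) u w c → g ∈ Z := by
    intro g u w c hu hw huw hg
    rcases (by decide : ∀ c : ZMod 2, c = 0 ∨ c = 1) c with rfl | rfl
    · have : g = 1 := omMat_injective Q (by rw [hg, map_one, siegelMatrix, zero_smul, add_zero])
      exact this ▸ Z.one_mem
    · obtain ⟨a, ha, rfl⟩ := vecB_surjective e u
      obtain ⟨b, hb, rfl⟩ := vecB_surjective e w
      have hok : pairOK qz a b = true := by
        have hadd : vecB e (a ^^^ b) = vecB e a + vecB e b := funext fun i => bitZ_xor _ _ _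
        have h3 : Q (vecB e (a ^^^ b)) = 0 := by
          have h := huw
          simp only [QuadraticMap.polar, hu, hw, sub_zero] at h
          rw [hadd]; exact h
        simp [pairOK, (hqz a ha).1 hu, (hqz b hb).1 hw, (hqz _ (Nat.xor_lt_two_pow ha hb)).1 h3]
      rw [← matB_rootC e Q P hP] at hg
      have h := hall a ha
      simp only [(hqz a ha).1 hu, Bool.not_true, Bool.false_or, List.all_eq_true, List.mem_range] at h
      have h' := h b hb
      simp only [hok, Bool.not_true, Bool.false_or, Bool.or_eq_true, beq_iff_eq] at h'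
      rcases h' with h' | h'
      · have : g = 1 := omMat_injective Q (by rw [hg, h', map_one, matB_oneC])
        exact this ▸ Z.one_mem
      · cases hi : C.index.find (pack n (rootC n P a b)) with
        | none => simp [hi] at h'
        | some x =>
          obtain ⟨i, q1, q2⟩ := x
          rw [hi] at h'
          simp only [Bool.and_eq_true, decide_eq_true_eq] at h'
          obtain ⟨hic, h'⟩ := h'
          cases ho : C.orbit.find i with
          | none => simp [ho] at h'
          | some y =>
            obtain ⟨code, r1, r2⟩ := y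
            rw [ho] at h'
            simp only [beq_iff_eq] at h'
            obtain ⟨r, hr, hr'⟩ := horbit i hic code r1 r2 ho
            rw [← h', ← hr'] at hg
            exact omMat_injective Q hg ▸ hr
  intro g
  have hgZ : g ∈ Z := by
    have hle : Omega (ZMod 2) ⇑Q ≤ Z.map (Omega (ZMod 2) ⇑Q).subtype := by
      conv_lhs => rw [Omega_eq_closure_siegel Q hQ hn]
      rw [Subgroup.closure_le]
      rintro s ⟨u, w, c, hu, hw, huw, hs⟩
      have hsO : s ∈ Omega (ZMod 2) ⇑Q := by
        rw [Omega_eq_closure_siegel Q hQ hn]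
        exact Subgroup.subset_closure ⟨u, w, c, hu, hw, huw, hs⟩
      exact ⟨⟨s, hsO⟩, hsieg ⟨s, hsO⟩ u w c hu hw huw hs, rfl⟩
    obtain ⟨g', hg', he⟩ := hle g.2
    exact Subtype.ext he ▸ hg'
  exact sub_eq_zero.1 hgZ

end Soundness

end CfsgLib.OrthH1
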