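/-
`H¹ = 0` for `Ω⁻₆(2)` and `Ω⁺₈(2)` on their natural modules.
-/
import Cfsg.Agent.Lib.OrthH1.Data
import Cfsg.Agent.Lib.Classical.QuadBinary
import Cfsg.Agent.Lib.Classical.QuadPOmega

set_option autoImplicit false

namespace CfsgLib.OrthH1

open Matrix Cfsg CfsgLib.Classical

theorem h1_of_check {ι : Type} [Fintype ι] [DecidableEq ι] (Qf : (ι → ZMod 2) → ZMod 2)
    (Q : QuadraticForm (ZMod 2) (ι → ZMod 2)) (hQf : ⇑Q = Qf) (hQ : PolarNondeg Q) (hn : 5 ≤ Fintype.card ι)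
    {n : ℕ} (e : ι ≃ Fin n) (P : List ℕ)
    (hP : ∀ i j : ι, QuadraticMap.polar Qf (Pi.single i 1) (Pi.single j 1) = bitZ (P.getD (e i) 0) (e j))
    (qz : ℕ) (hqz : ∀ x : Fin (2 ^ n), (Qf (vecB e x) = 0 ↔ qz.testBit x = true))
    (C : Cert) (hC : check n P qz C = true)
    (f : ↥(Omega (ZMod 2) Qf) → (ι → ZMod 2))
    (hf : ∀ g h : ↥(Omega (ZMod 2) Qf), f (g * h) = f g +
      (((g : ↥(isometryGroup (ZMod 2) Qf)) : GL ι (ZMod 2)) : Matrix ι ι (ZMod 2)) *ᵥ f h) :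
    ∃ v, ∀ g : ↥(Omega (ZMod 2) Qf), f g =
      (((g : ↥(isometryGroup (ZMod 2) Qf)) : GL ι (ZMod 2)) : Matrix ι ι (ZMod 2)) *ᵥ v - v := by
  subst hQf
  exact h1_eq_zero Q e hQ hn P hP qz (fun x hx => hqz ⟨x, hx⟩) C hC f hf

/-- Numbering of the coordinates. -/
def e6 : ((Fin 2 ⊕ Fin 2) ⊕ Fin 2) ≃ Fin 6 :=
  (Equiv.sumCongr finSumFinEquiv (Equiv.refl _)).trans finSumFinEquiv

/-- Numbering of the coordinates. -/
def e8 : (Fin 4 ⊕ Fin 4) ≃ Fin 8 := finSumFinEquiv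

theorem binAniso_one_one : BinAniso (1 : ZMod 2) 1 := by
  intro x y h
  revert h
  revert x y
  decide

theorem h1_minus_six (f : ↥(Omega (ZMod 2) (quadFormMinus 2 (ZMod 2) 1 1)) → ((Fin 2 ⊕ Fin 2) ⊕ Fin 2 → ZMod 2))
    (hf : ∀ g h : ↥(Omega (ZMod 2) (quadFormMinus 2 (ZMod 2) 1 1)), f (g * h) = f g +
      (((g : ↥(isometryGroup (ZMod 2) (quadFormMinus 2 (ZMod 2) 1 1))) : GL ((Fin 2 ⊕ Fin 2) ⊕ Fin 2) (ZMod 2)) :
        Matrix _ _ (ZMod 2)) *ᵥ f h) :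
    ∃ v, ∀ g : ↥(Omega (ZMod 2) (quadFormMinus 2 (ZMod 2) 1 1)), f g =
      (((g : ↥(isometryGroup (ZMod 2) (quadFormMinus 2 (ZMod 2) 1 1))) : GL ((Fin 2 ⊕ Fin 2) ⊕ Fin 2) (ZMod 2)) :
        Matrix _ _ (ZMod 2)) *ᵥ v - v :=
  h1_of_check _ (qExt 2 (qBin 1 1)) (coe_qExt_qBin 2 1 1)
    (polarNondeg_qExt (polarNondeg_qBin binAniso_one_one) 2) (by simp) e6 polar6 (by decide +kernel)
    zeros6 (by decide +kernel) cert6 check6 f hf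

theorem h1_plus_eight (f : ↥(Omega (ZMod 2) (quadFormPlus 4 (ZMod 2))) → (Fin 4 ⊕ Fin 4 → ZMod 2))
    (hf : ∀ g h : ↥(Omega (ZMod 2) (quadFormPlus 4 (ZMod 2))), f (g * h) = f g +
      (((g : ↥(isometryGroup (ZMod 2) (quadFormPlus 4 (ZMod 2)))) : GL (Fin 4 ⊕ Fin 4) (ZMod 2)) :
        Matrix _ _ (ZMod 2)) *ᵥ f h) :
    ∃ v, ∀ g : ↥(Omega (ZMod 2) (quadFormPlus 4 (ZMod 2))), f g =
      (((g : ↥(isometryGroup (ZMod 2) (quadFormPlus 4 (ZMod 2)))) : GL (Fin 4 ⊕ Fin 4) (ZMod 2)) :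
        Matrix _ _ (ZMod 2)) *ᵥ v - v :=
  h1_of_check _ (qPlus 4 (ZMod 2)) (coe_qPlus 4) (polarNondeg_qPlus 4) (by simp) e8 polar8
    (by decide +kernel) zeros8 (by decide +kernel) cert8 check8 f hf

end CfsgLib.OrthH1
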