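/-
`H¹(Ω⁻₄(2), F₂⁴) = 0`: an element of order five and one of order three whose product is an involution.
-/
import Cfsg.Agent.Lib.Classical.SmallIso.MinusFourTwo
import Cfsg.Agent.Lib.OrthH1.Bits

set_option autoImplicit false
set_option maxRecDepth 4000

namespace CfsgLib.OrthH1

open Matrix Cfsg

local notation "ι4" => ((Fin 1 ⊕ Fin 1) ⊕ Fin 2)
local notation "q4" => quadFormMinus 1 (ZMod 2) 1 1

/-- Numbering of the coordinates. -/
def e4 : ((Fin 1 ⊕ Fin 1) ⊕ Fin 2) ≃ Fin 4 := (Equiv.sumCongr finSumFinEquiv (Equiv.refl _)).trans finSumFinEquiv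

/-- The element of order five. -/
def five : Matrix ι4 ι4 (ZMod 2) := matB e4 [2, 7, 10, 4]

/-- The element of order three. -/
def three : Matrix ι4 ι4 (ZMod 2) := matB e4 [11, 2, 8, 14]

theorem h1_minus_four
    (f : ↥(Omega (ZMod 2) q4) → (ι4 → ZMod 2))
    (hf : ∀ g h : ↥(Omega (ZMod 2) q4), f (g * h) = f g +
      (((g : ↥(isometryGroup (ZMod 2) q4)) : GL ι4 (ZMod 2)) : Matrix ι4 ι4 (ZMod 2)) *ᵥ f h) :
    ∃ v, ∀ g : ↥(Omega (ZMod 2) q4), f g =
      (((g : ↥(isometryGroup (ZMod 2) q4)) : GL ι4 (ZMod 2)) : Matrix ι4 ι4 (ZMod 2)) *ᵥ v - v := by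
  classical
  obtain ⟨φ⟩ := CfsgLib.Classical.SmallIso.minus_four_two (F := ZMod 2) (ZMod.card 2)
  let M : ↥(Omega (ZMod 2) q4) →* Matrix ι4 ι4 (ZMod 2) :=
    ((Units.coeHom _).comp (isometryGroup (ZMod 2) q4).subtype).comp (Omega (ZMod 2) q4).subtype
  change ∀ g h, f (g * h) = f g + M g *ᵥ f h at hf
  change ∃ v, ∀ g, f g = M g *ᵥ v - v
  have hMinj : Function.Injective M := fun _ _ h => Subtype.ext (Subtype.ext (Units.ext h))
  have hmap : (Omega (ZMod 2) q4).map φ.toMonoidHom = alternatingGroup (Fin 5) := by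
    rw [← alternatingGroup.commutator_perm_eq (α := Fin 5) (by simp), Omega, commutator_def,
      Subgroup.map_commutator, Subgroup.map_top_of_surjective φ.toMonoidHom φ.surjective, commutator_def]
  -- odd order isometries lie in `Ω`
  have hodd : ∀ (A : Matrix ι4 ι4 (ZMod 2)) (k : ℕ), Odd k → A ^ k = 1 →
      (∀ u, q4 (A *ᵥ u) = q4 u) → ∃ g : ↥(Omega (ZMod 2) q4), M g = A := by
    intro A k hk hA hq
    obtain ⟨j, rfl⟩ := hk
    let a : GL ι4 (ZMod 2) := ⟨A, A ^ (2 * j),
      by rw [← pow_succ', hA], by rw [← pow_succ, hA]⟩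
    let b : isometryGroup (ZMod 2) q4 := ⟨a, fun u _ => hq u⟩
    have hb : b ^ (2 * j + 1) = 1 := Subtype.ext (Units.ext (by simpa [b, a] using hA))
    refine ⟨⟨b, ?_⟩, rfl⟩
    have h2 : φ b ∈ alternatingGroup (Fin 5) := by
      rw [Equiv.Perm.mem_alternatingGroup]
      have h := congrArg (fun x => Equiv.Perm.sign (φ x)) hb
      simp only [map_pow, map_one] at h
      rcases Int.units_eq_one_or (Equiv.Perm.sign (φ b)) with h' | h'
      · exact h'
      · rw [h', Odd.neg_one_pow ⟨j, rfl⟩] at h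
        exact absurd h (by decide)
    rw [← hmap] at h2
    obtain ⟨c, hc, hce⟩ := h2
    have : c = b := φ.injective hce
    rwa [this] at hc
  obtain ⟨k, hk⟩ := hodd five 5 ⟨2, rfl⟩ (by decide +kernel) (by decide +kernel)
  obtain ⟨t, ht⟩ := hodd three 3 ⟨1, rfl⟩ (by decide +kernel) (by decide +kernel)
  obtain ⟨v, hv⟩ : ∃ v, five *ᵥ v - v = f k := by
    have h : ∀ w : ι4 → ZMod 2, ∃ v, five *ᵥ v - v = w := by decide +kernel
    exact h _
  refine ⟨v, ?_⟩
  let f' : ↥(Omega (ZMod 2) q4) → (ι4 → ZMod 2) := fun g => f g - (M g *ᵥ v - v)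
  have hf' : ∀ g h, f' (g * h) = f' g + M g *ᵥ f' h := by
    intro g h
    simp only [f', hf, map_mul, mulVec_sub, ← mulVec_mulVec]
    abel
  have hone : f' 1 = 0 := by
    have h := hf' 1 1
    rw [mul_one, map_one, one_mulVec] at h
    simpa using h
  let Z : Subgroup ↥(Omega (ZMod 2) q4) :=
    { carrier := {g | f' g = 0}
      one_mem' := hone
      mul_mem' := fun {a b} ha hb => by
        change f' (a * b) = 0
        rw [hf', show f' a = 0 from ha, show f' b = 0 from hb, mulVec_zero, add_zero]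
      inv_mem' := fun {a} ha => by
        have h := hf' a a⁻¹
        rw [mul_inv_cancel, hone, show f' a = 0 from ha, zero_add] at h
        have h' := congrArg (M a⁻¹ *ᵥ ·) h.symm
        simpa [mulVec_mulVec, ← map_mul] using h' }
  have hkZ : k ∈ Z := by
    change f k - (M k *ᵥ v - v) = 0
    rw [hk, hv, sub_self]
  have htZ : t ∈ Z := by
    change f' t = 0
    have h3 : t ^ 3 = 1 := hMinj (by rw [map_pow, map_one, ht]; decide +kernel)
    have h2 : (k * t) ^ 2 = 1 := hMinj (by rw [map_pow, map_one, map_mul, hk, ht]; decide +kernel)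
    have e1 : f' t + three *ᵥ (f' t + three *ᵥ f' t) = 0 := by
      rw [← ht, ← hf', ← hf', ← mul_assoc, ← pow_three' t, h3, hone]
    have e2 : five *ᵥ f' t + (five * three) *ᵥ (five *ᵥ f' t) = 0 := by
      have hkt : f' (k * t) = five *ᵥ f' t := by
        rw [hf', show f' k = 0 from hkZ, zero_add, hk]
      rw [← hkt, ← hk, ← ht, ← map_mul, ← hf', ← pow_two, h2, hone]
    have key : ∀ w : ι4 → ZMod 2, w + three *ᵥ (w + three *ᵥ w) = 0 →
        five *ᵥ w + (five * three) *ᵥ (five *ᵥ w) = 0 → w = 0 := by decide +kernel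
    exact key _ e1 e2
  -- a subgroup of `A₅` containing elements of orders three and five is everything
  have hk5 : orderOf k = 5 := by
    have : Fact (Nat.Prime 5) := ⟨by norm_num⟩
    refine orderOf_eq_prime (hMinj (by rw [map_pow, map_one, hk]; decide +kernel)) fun h => ?_
    rw [h, map_one] at hk
    exact absurd hk (by decide +kernel)
  have ht3 : orderOf t = 3 := by
    have : Fact (Nat.Prime 3) := ⟨by norm_num⟩
    refine orderOf_eq_prime (hMinj (by rw [map_pow, map_one, ht]; decide +kernel)) fun h => ?_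
    rw [h, map_one] at ht
    exact absurd ht (by decide +kernel)
  let ψ : ↥(Omega (ZMod 2) q4) ≃* ↥(alternatingGroup (Fin 5)) :=
    (φ.subgroupMap (Omega (ZMod 2) q4)).trans (MulEquiv.subgroupCongr hmap)
  have : IsSimpleGroup ↥(Omega (ZMod 2) q4) :=
    have := alternatingGroup.isSimpleGroup (α := Fin 5) (by simp)
    have : Nontrivial ↥(Omega (ZMod 2) q4) := ψ.toEquiv.nontrivial
    IsSimpleGroup.isSimpleGroup_of_surjective ψ.symm.toMonoidHom ψ.symm.surjective
  have hcard : Nat.card ↥(Omega (ZMod 2) q4) = 60 := by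
    rw [Nat.card_congr ψ.toEquiv, nat_card_alternatingGroup, Nat.card_fin]
    rfl
  have htop : Z = ⊤ := by
    have h15 : 15 ∣ Nat.card Z := by
      have a := Subgroup.orderOf_dvd_natCard Z hkZ
      have b := Subgroup.orderOf_dvd_natCard Z htZ
      rw [hk5] at a
      rw [ht3] at b
      exact Nat.Coprime.mul_dvd_of_dvd_of_dvd (by norm_num : Nat.Coprime 5 3) a b
    have hi : Z.index ≤ 4 := by
      obtain ⟨c, hc⟩ := h15
      have h := Z.card_mul_index
      rw [hcard, hc] at h
      rcases Nat.eq_zero_or_pos c with rfl | hc0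
      · simp at h
      · nlinarith
    rcases Subgroup.Normal.eq_bot_or_eq_top (Z.normalCore_normal) with h | h
    · exfalso
      have hinj : Function.Injective (MulAction.toPermHom ↥(Omega (ZMod 2) q4) (↥(Omega (ZMod 2) q4) ⧸ Z)) := by
        rw [← MonoidHom.ker_eq_bot_iff, ← Subgroup.normalCore_eq_ker, h]
      have hle := Nat.card_le_card_of_injective _ hinj
      rw [hcard, Nat.card_perm, ← Subgroup.index] at hle
      have := Nat.factorial_le hi
      rw [show Nat.factorial 4 = 24 from rfl] at this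
      omega
    · exact top_le_iff.1 (h ▸ Z.normalCore_le)
  intro g
  exact sub_eq_zero.1 (show f' g = 0 from (show g ∈ Z from htop ▸ Subgroup.mem_top g))

end CfsgLib.OrthH1
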